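import Cfsg.Agent.H98.Held.Classify
import Cfsg.Agent.Cores.PCore
import Cfsg.Prelude.Def_Sporadic

/-!
From an isomorphism of involution centralisers to the coded embedding, and the class of a conjugate inside the core.
-/

set_option autoImplicit false
set_option maxRecDepth 100000

namespace Cfsg.Agent.H96.Held

open Subgroup Cfsg.Agent.H98.Held

universe u

variable {G : Type u} [Group G]

theorem eq_sT {s : Matrix.SpecialLinearGroup (Fin 5) (ZMod 2)}
    (hs : (s : Matrix (Fin 5) (Fin 5) (ZMod 2)) = Matrix.transvection 0 1 1) : s = sT :=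
  Subtype.ext hs

/-- A central element of the centraliser of the transvection is trivial or the transvection. -/
theorem cd_of_central {y : C5} (hy : ∀ x : C5, x * y = y * x) : cd y = oneC ∨ cd y = zT := by
  have hcomm : ∀ {g : ℕ}, Gd g → mm g (cd y) = mm (cd y) g := by
    rintro g ⟨x, rfl⟩
    rw [← cd_mul, ← cd_mul, hy]
  have h1 : cd y ∈ aOne := (Emb.cent_block_list (isC_cd y)).1 fun b hb =>
    (hcomm (block_one.1.sq b (block_one.2 hb)).1).symm
  have h2 : cd y ∈ aTwo := (Emb.cent_block_list (isC_cd y)).2 fun b hb =>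
    (hcomm (block_two.1.sq b (block_two.2 hb)).1).symm
  have h := List.all_eq_true.1 s_center (cd y) h1
  simp only [Bool.or_eq_true, Bool.not_eq_true'] at h
  rcases h with ((h | h) | h) | h
  · exact Or.inl (Nat.eq_of_beq_eq_true h)
  · exact Or.inr (Nat.eq_of_beq_eq_true h)
  · exact absurd (any_of_mem h2) (by rw [h]; simp)
  · exfalso
    rw [← Bool.not_eq_true, List.all_eq_true] at h
    exact h fun g hg => Nat.beq_eq ▸ hcomm (gd_sGens hg).1

theorem exists_emb {s : Matrix.SpecialLinearGroup (Fin 5) (ZMod 2)}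
    (hs : (s : Matrix (Fin 5) (Fin 5) (ZMod 2)) = Matrix.transvection 0 1 1) {j : G} (hj : orderOf j = 2)
    (e : centralizer ({j} : Set G) ≃* centralizer ({s} : Set (Matrix.SpecialLinearGroup (Fin 5) (ZMod 2)))) :
    ∃ B : Emb G, B.z = j := by
  obtain rfl := eq_sT hs
  have hjm : j ∈ centralizer ({j} : Set G) := mem_centralizer_singleton_iff.2 rfl
  set y : C5 := e ⟨j, hjm⟩ with hy
  have hyc : ∀ x : C5, x * y = y * x := by
    intro x
    obtain ⟨g, rfl⟩ := e.surjective x
    rw [hy, ← map_mul, ← map_mul]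
    exact congrArg e (Subtype.ext (mem_centralizer_singleton_iff.1 g.2))
  have hyz : cd y = zT := by
    refine (cd_of_central hyc).resolve_left fun h => ?_
    rw [← cd_one] at h
    have h2 : (⟨j, hjm⟩ : centralizer ({j} : Set G)) = 1 :=
      e.injective ((cd_inj h).trans (map_one e).symm)
    rw [show j = 1 from congrArg Subtype.val h2, orderOf_one] at hj
    norm_num at hj
  refine ⟨⟨j, (centralizer ({j} : Set G)).subtype.comp e.symm.toMonoidHom, ?_, ?_, fun x hx => ?_⟩, rfl⟩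
  · exact (Subgroup.subtype_injective _).comp e.symm.injective
  · ext g
    constructor
    · rintro ⟨x, rfl⟩
      exact (e.symm x).2
    · intro hg
      exact ⟨e ⟨g, hg⟩, by simp⟩
  · obtain rfl : x = y := cd_inj (hx.trans hyz.symm)
    simp [hy]

variable [Finite G] (B : Emb G)

theorem out_mem {k : ℕ} (hk : k = 3 ∨ k = 6 ∨ k = 7) {N : Subgroup (centralizer ({B.z} : Set G))} [hN : N.Normal]
    (hp : IsPGroup 2 N) (h : (⟨B.lf (rep k), B.lf_mem (rep_spec (by omega)).1⟩ : centralizer ({B.z} : Set G)) ∈ N) :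
    False := by
  obtain ⟨hall, hfst⟩ := out_check
  have hk' : k ∈ outWit.map Prod.fst := by rw [hfst]; rcases hk with rfl | rfl | rfl <;> simp
  obtain ⟨⟨k', c, ci⟩, hmem, rfl⟩ := List.mem_map.1 hk'
  have hw := List.all_eq_true.1 hall _ hmem
  simp only [Cfsg.Agent.H45.force_eq, Bool.and_eq_true, Bool.not_eq_true', Nat.beq_eq, beq_ne] at hw
  obtain ⟨⟨hc, hci⟩, hp1, hp3⟩ := hw
  have hcc : mm c ci = oneC := by
    simp only [gdB, Bool.and_eq_true, Nat.beq_eq] at hc
    exact hc.1.2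
  have gc := gd_of_gdB hc
  have gci := gd_of_gdB hci
  have gr := (rep_spec (k := k') (by omega)).1
  have gq : Gd (cjC c ci (rep k')) := (gc.mul gr).mul gci
  set r : centralizer ({B.z} : Set G) := ⟨B.lf (rep k'), B.lf_mem gr⟩
  set d : centralizer ({B.z} : Set G) := ⟨B.lf c, B.lf_mem gc⟩
  have hprod : r * (d * r * d⁻¹) ∈ N := N.mul_mem h (hN.conj_mem r h d)
  have hval : ((r * (d * r * d⁻¹) : centralizer ({B.z} : Set G)) : G) = B.lf (mm (rep k') (cjC c ci (rep k'))) := by
    rw [B.lf_mul gr gq, B.lf_cj gc gci hcc gr]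
    rfl
  set p := mm (rep k') (cjC c ci (rep k'))
  have gp : Gd p := gr.mul gq
  have h3 : ((r * (d * r * d⁻¹) : centralizer ({B.z} : Set G)) : G) ^ 3 = 1 := by
    rw [hval, pow_succ, pow_two, ← B.lf_mul gp gp, ← B.lf_mul (gp.mul gp) gp, hp3, B.lf_one]
  obtain ⟨n, hn⟩ := hp ⟨_, hprod⟩
  have h2 : ((r * (d * r * d⁻¹) : centralizer ({B.z} : Set G)) : G) ^ 2 ^ n = 1 := by
    have := congrArg (fun x : N => ((x : centralizer ({B.z} : Set G)) : G)) hn
    simpa using this
  have h1 := pow_gcd_eq_one.2 ⟨h3, h2⟩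
  rw [show Nat.gcd 3 (2 ^ n) = 1 from Nat.Coprime.pow_right n (by norm_num), pow_one, hval,
    B.lf_eq_one gp] at h1
  exact hp1 h1

theorem nwc_of_core {g : G} (hq : g * B.z * g⁻¹ ∈ centralizer ({B.z} : Set G))
    (hmem : (⟨g * B.z * g⁻¹, hq⟩ : centralizer ({B.z} : Set G)) ∈ Cfsg.pCore 2 (centralizer ({B.z} : Set G)))
    (hne : g * B.z * g⁻¹ ≠ B.z) : B.IsZ (rep 1) ∨ B.IsZ (rep 2) := by
  haveI : Fact (Nat.Prime 2) := ⟨Nat.prime_two⟩
  obtain ⟨a, ha, hae⟩ := B.exists_code (mem_centralizer_singleton_iff.1 hq)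
  have hz : B.IsZ a := isConj_iff.2 ⟨g, hae.symm⟩
  have hne1 : a ≠ oneC := fun e => by
    rw [e, B.lf_one] at hae
    exact B.z_ne (conj_eq_one_iff.1 hae.symm)
  have ha2 : mm a a = oneC := (B.lf_sq_one ha).1 (by
    rw [hae, show g * B.z * g⁻¹ * (g * B.z * g⁻¹) = g * (B.z * B.z) * g⁻¹ by group, B.z_sq]; group)
  have hzk := (B.isZ_iff ha ha2 hne1).1 hz
  obtain ⟨c, hc, hce⟩ := B.conj_rep ha ha2 hne1
  have hk := cls_lt ha ha2 hne1
  have hout : ∀ k, k = 3 ∨ k = 6 ∨ k = 7 → cls a ≠ k := by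
    intro k hk' e
    refine out_mem B hk' (N := Cfsg.pCore 2 (centralizer ({B.z} : Set G))) (Cfsg.Agent.Cores.pCore_isPGroup (p := 2)) ?_
    have hconj := (inferInstance : (Cfsg.pCore 2 (centralizer ({B.z} : Set G))).Normal).conj_mem _ hmem
      (⟨B.lf c, B.lf_mem hc⟩⁻¹)
    convert hconj using 1
    apply Subtype.ext
    change B.lf (rep k) = (B.lf c)⁻¹ * (g * B.z * g⁻¹) * (B.lf c)⁻¹⁻¹
    rw [← hae, ← hce, e]
    group
  generalize hcls : cls a = k at hzk hk hout hce
  interval_cases k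
  · exfalso
    rw [rep_check.2.1, B.lf_z, B.lf_comm_z hc, mul_inv_cancel_right, hae] at hce
    exact hne hce.symm
  · exact Or.inl hzk
  · exact Or.inr hzk
  · exact absurd rfl (hout 3 (by norm_num))
  · exact absurd hzk B.not_isZ_four
  · exact absurd hzk B.not_isZ_five
  · exact absurd rfl (hout 6 (by norm_num))
  · exact absurd rfl (hout 7 (by norm_num))

end Cfsg.Agent.H96.Held
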