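import Cfsg.Agent.H96.Held.Glue
import Cfsg.Agent.H95.Held.Main
import Cfsg.Agent.S0364
import Cfsg.Agent.S0365
import Cfsg.Agent.S1695

/-!
Consequences of the classification of the groups with the involution centraliser of `SL(5,2)`.
-/

set_option autoImplicit false

namespace Cfsg.Agent.H96.Held

open Subgroup Cfsg.Agent.H98.Held

universe u v

variable {G : Type u} [Group G]

/-- The three simple groups at the level of orders. -/
theorem orders_of_iso
    (h : Nonempty (G ≃* Matrix.SpecialLinearGroup (Fin 5) (ZMod 2)) ∨ Nonempty (G ≃* Cfsg.M24) ∨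
      Cfsg.Spor.IsoHe G) :
    Nonempty (G ≃* Matrix.SpecialLinearGroup (Fin 5) (ZMod 2)) ∨ Cfsg.IsM24 G ∨ Cfsg.IsHe G := by
  rcases h with h | ⟨⟨e⟩⟩ | ⟨⟨e⟩⟩
  · exact Or.inl h
  · refine Or.inr (Or.inl ⟨?_, ?_⟩)
    · haveI := Cfsg.Agent.S0365.result
      exact e.isSimpleGroup
    · rw [Nat.card_congr e.toEquiv]; exact Cfsg.Agent.S0364.result
  · obtain ⟨h1, h2⟩ := Cfsg.Agent.S1695.result
    refine Or.inr (Or.inr ⟨?_, ?_⟩)
    · haveI := h1
      exact e.isSimpleGroup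
    · rw [Nat.card_congr e.toEquiv]; exact h2

/-- The order determines which of the three groups it is. -/
theorem iso_of_card {H : Type v} [Group H]
    (hG : Nonempty (G ≃* Matrix.SpecialLinearGroup (Fin 5) (ZMod 2)) ∨ Nonempty (G ≃* Cfsg.M24) ∨
      Cfsg.Spor.IsoHe G)
    (hH : Nonempty (H ≃* Matrix.SpecialLinearGroup (Fin 5) (ZMod 2)) ∨ Nonempty (H ≃* Cfsg.M24) ∨
      Cfsg.Spor.IsoHe H) (hcard : Nat.card G = Nat.card H) : Nonempty (G ≃* H) := by
  have c1 := Cfsg.Agent.H95.Held.L52.card_SL5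
  have c2 := Cfsg.Agent.S0364.result
  have c3 := Cfsg.Agent.S1695.result.2
  rcases hG with ⟨⟨e⟩⟩ | ⟨⟨e⟩⟩ | ⟨⟨e⟩⟩ <;> rcases hH with ⟨⟨f⟩⟩ | ⟨⟨f⟩⟩ | ⟨⟨f⟩⟩ <;>
    first
    | exact ⟨e.trans f.symm⟩
    | (exfalso; rw [Nat.card_congr e.toEquiv, Nat.card_congr f.toEquiv] at hcard;
       simp only [c1, c2, c3] at hcard; norm_num at hcard)

end Cfsg.Agent.H96.Held
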